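import Cfsg.Agent.OddOrderLocal.Thm34Weights
import Cfsg.Agent.OddOrderLocal.DecompBasic
import Cfsg.Agent.S0022
import Cfsg.Agent.S0026
import Cfsg.Agent.S0055
import Cfsg.Agent.S0059
set_option linter.all false

-- part: H562/FpfWeights
section
/-!
# Weights of a normal subgroup and a group of order `f e` acting without fixed vectors

`Γ` a finite group, `ρ` a representation over an algebraically closed field, `Z` a commutative normal
subgroup, `F` and `H` subgroups of prime orders `f` and `e`, `e ∣ f - 1`, `H` normalising `F`, no nonzero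
vector fixed by `F` and `H`.
-/

set_option autoImplicit false

namespace Cfsg.Agent.H562.FpfWeights

open Module Cfsg.Agent.OddOrderLocal.Thm34Weights

attribute [local instance] wtAction

section general

variable {k : Type*} [Field k] {Γ : Type*} [Group Γ] {V : Type*} [AddCommGroup V] [Module k V]

/-- the stabiliser of a point intersects a subgroup of prime order moving the point trivially -/
theorem smul_inj_of_prime {Γ : Type*} [Group Γ] {X : Type*} [MulAction Γ X] (B : Subgroup Γ)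
    (hB : (Nat.card B).Prime) {ψ : X} (hne : ∃ b ∈ B, b • ψ ≠ ψ) {b c : Γ} (hb : b ∈ B) (hc : c ∈ B)
    (h : b • ψ = c • ψ) : b = c := by
  have : Finite B := Nat.finite_of_card_ne_zero hB.ne_zero
  have hfr : Fact (Nat.card B).Prime := ⟨hB⟩
  rcases ((MulAction.stabilizer Γ ψ).subgroupOf B).eq_bot_or_eq_top_of_prime_card with h1 | h1
  · have h2 : (⟨c⁻¹ * b, B.mul_mem (B.inv_mem hc) hb⟩ : B) ∈ (MulAction.stabilizer Γ ψ).subgroupOf B := by
      rw [Subgroup.mem_subgroupOf, MulAction.mem_stabilizer_iff]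
      show (c⁻¹ * b) • ψ = ψ
      rw [mul_smul, h, inv_smul_smul]
    rw [h1, Subgroup.mem_bot] at h2
    have h3 : c⁻¹ * b = 1 := congrArg Subtype.val h2
    exact (inv_mul_eq_one.mp h3).symm
  · obtain ⟨b', hb', hb'ne⟩ := hne
    exfalso
    apply hb'ne
    have h2 : (⟨b', hb'⟩ : B) ∈ (MulAction.stabilizer Γ ψ).subgroupOf B := by rw [h1]; trivial
    rw [Subgroup.mem_subgroupOf, MulAction.mem_stabilizer_iff] at h2
    exact h2

/-- an element of a subgroup of prime order which is not `1` generates it -/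
theorem mem_zpowers_of_prime {Γ : Type*} [Group Γ] (B : Subgroup Γ)
    (hB : (Nat.card B).Prime) {b c : Γ} (hb : b ∈ B) (hb1 : b ≠ 1) (hc : c ∈ B) :
    c ∈ Subgroup.zpowers b := by
  have : Finite B := Nat.finite_of_card_ne_zero hB.ne_zero
  have hfr : Fact (Nat.card B).Prime := ⟨hB⟩
  have h1 := zpowers_eq_top_of_prime_card (G := B) (p := Nat.card B) rfl (g := ⟨b, hb⟩)
    (fun h => hb1 (congrArg Subtype.val h))
  have h2 : (⟨c, hc⟩ : B) ∈ Subgroup.zpowers (⟨b, hb⟩ : B) := by rw [h1]; trivial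
  obtain ⟨n, hn⟩ := h2
  exact ⟨n, by simpa using congrArg Subtype.val hn⟩

theorem exists_ne_one_of_prime {Γ : Type*} [Group Γ] (B : Subgroup Γ) (hB : (Nat.card B).Prime) :
    ∃ b ∈ B, b ≠ 1 := by
  have : Finite B := Nat.finite_of_card_ne_zero hB.ne_zero
  have h1 : 1 < Nat.card B := hB.one_lt
  rw [Subgroup.one_lt_card_iff_ne_bot] at h1
  rcases Subgroup.bot_or_exists_ne_one B with h | ⟨b, hb, hb1⟩
  · exact absurd h h1
  · exact ⟨b, hb, hb1⟩

theorem pow_card_eq_one_of_mem {Γ : Type*} [Group Γ] (B : Subgroup Γ) {b : Γ} (hb : b ∈ B) :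
    b ^ Nat.card B = 1 := by
  have h : (⟨b, hb⟩ : B) ^ Nat.card B = 1 := pow_card_eq_one'
  have h2 := congrArg Subtype.val h
  rw [SubmonoidClass.coe_pow] at h2
  exact h2

/-- the sum of the translates of a vector -/
noncomputable def sm (ρ : Representation k Γ V) (B : Subgroup Γ) [Fintype B] (v : V) : V :=
  ∑ b : B, ρ (b : Γ) v

theorem rho_sm (ρ : Representation k Γ V) (B : Subgroup Γ) [Fintype B] (v : V) {b : Γ} (hb : b ∈ B) :
    ρ b (sm ρ B v) = sm ρ B v := by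
  unfold sm
  rw [map_sum]
  apply Fintype.sum_equiv (Equiv.mulLeft (⟨b, hb⟩ : B))
  intro c
  rw [Equiv.coe_mulLeft, Subgroup.coe_mul, map_mul, End.mul_apply]

theorem rho_sm_normal (ρ : Representation k Γ V) (B : Subgroup Γ) [Fintype B] (v : V) {h : Γ}
    (hh : ∀ b ∈ B, h * b * h⁻¹ ∈ B) (hh' : ∀ b ∈ B, h⁻¹ * b * h ∈ B) (hv : ρ h v = v) :
    ρ h (sm ρ B v) = sm ρ B v := by
  unfold sm
  rw [map_sum]
  apply Fintype.sum_equiv ⟨fun b : B => (⟨h * b * h⁻¹, hh b b.2⟩ : B),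
    fun b : B => (⟨h⁻¹ * b * h, hh' b b.2⟩ : B),
    fun b => Subtype.ext (by simp only; group), fun b => Subtype.ext (by simp only; group)⟩
  intro b
  simp only [Equiv.coe_fn_mk, map_mul, End.mul_apply]
  have : ρ h⁻¹ v = v := by
    conv_lhs => rw [← hv]
    rw [← End.mul_apply, ← map_mul, inv_mul_cancel, map_one, End.one_apply]
  rw [this]

variable [Finite Γ] [FiniteDimensional k V]

/-- the sum over a subgroup of prime order moving the weight does not vanish -/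
theorem sm_ne_zero {ρ : Representation k Γ V} {Z : Subgroup Γ} [Z.Normal] (hZk : (Nat.card Z : k) ≠ 0)
    (hZ : ∀ a ∈ Z, ∀ b ∈ Z, a * b = b * a) (B : Subgroup Γ) [Fintype B] (hB : (Nat.card B).Prime)
    {ψ : Z → k} (hne : ∃ b ∈ B, b • ψ ≠ ψ) {v : V} (hv : v ∈ wt ρ Z ψ) (hv0 : v ≠ 0) :
    sm ρ B v ≠ 0 := by
  intro h
  have h1 := eq_zero_of_sum_wt hZk hZ (Finset.univ : Finset B) (fun b => (b : Γ) • ψ)
    (fun b => ρ (b : Γ) v) (by
      intro i _ j _ hij
      exact Subtype.ext (smul_inj_of_prime B hB hne i.2 j.2 hij)) (by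
      intro j _
      exact smul_mem_wt hv (j : Γ)) h 1 (Finset.mem_univ _)
  apply hv0
  simpa using h1

end general

/-- The situation: `Z` a commutative normal subgroup of the finite group `Γ`, `F` and `H` of prime order,
`H` normalising `F`, no vector fixed by `F` and `H`, and no element of `Z` centralised by `F` and `H`. -/
structure Sit {k : Type*} [Field k] {Γ : Type*} [Group Γ] {V : Type*} [AddCommGroup V] [Module k V]
    (ρ : Representation k Γ V) (Z T F H : Subgroup Γ) : Prop where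
  hZn : Z.Normal
  hZ : ∀ a ∈ Z, ∀ b ∈ Z, a * b = b * a
  hZk : (Nat.card Z : k) ≠ 0
  hF : (Nat.card F).Prime
  hH : (Nat.card H).Prime
  hef : Nat.card H ∣ Nat.card F - 1
  hHF : ∀ h ∈ H, ∀ a ∈ F, h * a * h⁻¹ ∈ F
  hFT : ∀ a ∈ F, ∀ y ∈ T, a * y * a⁻¹ ∈ T
  hHT : ∀ a ∈ H, ∀ y ∈ T, a * y * a⁻¹ ∈ T
  hFZ : ¬ Nat.card F ∣ Nat.card Z
  hHZ : ¬ Nat.card H ∣ Nat.card Z
  hFTc : ¬ Nat.card F ∣ Nat.card T
  hHTc : ¬ Nat.card H ∣ Nat.card T
  hTs : Group.IsSolvable T
  hCZ : ∀ x ∈ Z, (∀ a ∈ F, a * x = x * a) → (∀ a ∈ H, a * x = x * a) → x = 1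
  hV : ∀ v : V, (∀ a ∈ F, ρ a v = v) → (∀ a ∈ H, ρ a v = v) → v = 0

namespace Sit

variable {k : Type*} [Field k] {Γ : Type*} [Group Γ] [Finite Γ] {V : Type*} [AddCommGroup V] [Module k V]
variable {ρ : Representation k Γ V} {Z T F H : Subgroup Γ}

omit [Finite Γ] in
theorem hHF' (s : Sit ρ Z T F H) : ∀ h ∈ H, ∀ a ∈ F, h⁻¹ * a * h ∈ F := by
  intro h hh a ha
  have := s.hHF h⁻¹ (inv_mem hh) a ha
  simpa using this

omit [Finite Γ] in
theorem le_norm (s : Sit ρ Z T F H) : H ≤ Subgroup.normalizer (F : Set Γ) := by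
  intro h hh
  rw [Subgroup.mem_normalizer_iff]
  intro a
  refine ⟨fun ha => s.hHF h hh a ha, fun ha => ?_⟩
  have := s.hHF' h hh _ ha
  have h2 : h⁻¹ * (h * a * h⁻¹) * h = a := by group
  rwa [h2] at this

theorem card_A (s : Sit ρ Z T F H) : Nat.card (H ⊔ F : Subgroup Γ) ∣ Nat.card H * Nat.card F :=
  Cfsg.Agent.OddOrderLocal.DecompBasic.card_sup_dvd s.le_norm

theorem cop_A (s : Sit ρ Z T F H) {n : ℕ} (h1 : ¬ Nat.card F ∣ n) (h2 : ¬ Nat.card H ∣ n) :
    (Nat.card (H ⊔ F : Subgroup Γ)).Coprime n := by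
  apply Nat.Coprime.coprime_dvd_left s.card_A
  exact Nat.Coprime.mul_left ((Nat.Prime.coprime_iff_not_dvd s.hH).2 h2)
    ((Nat.Prime.coprime_iff_not_dvd s.hF).2 h1)

/-- a weight fixed by `F` and `H` is trivial -/
theorem triv_of_fixed (s : Sit ρ Z T F H) [Z.Normal] {ψ : Z → k} (hψ : wt ρ Z ψ ≠ ⊥)
    (hF : ∀ a ∈ F, a • ψ = ψ) (hH : ∀ a ∈ H, a • ψ = ψ) (z : Z) : ψ z = 1 := by
  have hA : H ⊔ F ≤ MulAction.stabilizer Γ ψ := sup_le (fun a ha => hH a ha) (fun a ha => hF a ha)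
  have hcop := s.cop_A s.hFZ s.hHZ
  have hsol : Group.IsSolvable Z := by
    exact Group.isSolvable_of_comm (fun a b => Subtype.ext (s.hZ a a.2 b b.2))
  have h1 := Cfsg.Agent.S0026.result (H ⊔ F) Z (le_top.trans_eq Z.normalizer_eq_top.symm) hcop (Or.inr hsol)
  have h2 : Z ⊓ Subgroup.centralizer ((H ⊔ F : Subgroup Γ) : Set Γ) = ⊥ := by
    rw [eq_bot_iff]
    rintro x ⟨hx, hx'⟩
    rw [Subgroup.mem_bot]
    apply s.hCZ x hx
    · intro a ha
      exact (Subgroup.mem_centralizer_iff.1 hx') a (Subgroup.mem_sup_right ha)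
    · intro a ha
      exact (Subgroup.mem_centralizer_iff.1 hx') a (Subgroup.mem_sup_left ha)
  rw [h2, sup_bot_eq] at h1
  obtain ⟨v, hv, hv0⟩ := Submodule.exists_mem_ne_zero_of_ne_bot hψ
  -- the subgroup of elements fixing the weight space
  let K : Subgroup Γ :=
    { carrier := {g | ∀ w ∈ wt ρ Z ψ, ρ g w = w}
      mul_mem' := by
        intro a b ha hb w hw
        rw [map_mul, End.mul_apply, hb w hw, ha w hw]
      one_mem' := by
        intro w _
        rw [map_one, End.one_apply]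
      inv_mem' := by
        intro a ha w hw
        conv_lhs => rw [← ha w hw]
        rw [← End.mul_apply, ← map_mul, inv_mul_cancel, map_one, End.one_apply] }
  have hK : ⁅Z, H ⊔ F⁆ ≤ K := by
    rw [Subgroup.commutator_le]
    intro z hz a ha w hw
    have haψ : a • ψ = ψ := hA ha
    have hz' : z⁻¹ ∈ Z := inv_mem hz
    rw [commutatorElement_def]
    have h3 : ρ (a * z⁻¹ * a⁻¹) w = ρ z⁻¹ w := by
      rw [mem_wt] at hw
      have h4 := hw (MulAut.conjNormal a ⟨z⁻¹, hz'⟩)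
      have h5 := hw ⟨z⁻¹, hz'⟩
      rw [MulAut.conjNormal_apply] at h4
      rw [h4, h5]
      congr 1
      have h6 := congrFun haψ (MulAut.conjNormal a ⟨z⁻¹, hz'⟩)
      rw [wt_smul_def, ← MulAut.mul_apply, ← map_mul, inv_mul_cancel, map_one] at h6
      exact h6.symm
    have h7 : z * a * z⁻¹ * a⁻¹ = z * (a * z⁻¹ * a⁻¹) := by group
    rw [h7, map_mul, End.mul_apply, h3, ← End.mul_apply, ← map_mul, mul_inv_cancel, map_one,
      End.one_apply]
  rw [h1] at hK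
  have h8 := hK z.2 v hv
  rw [mem_wt] at hv
  rw [hv z] at h8
  have h9 : (ψ z - 1) • v = 0 := by rw [sub_smul, one_smul, h8, sub_self]
  rcases smul_eq_zero.1 h9 with h | h
  · exact sub_eq_zero.1 h
  · exact absurd h hv0

variable [FiniteDimensional k V]

/-- if `F` fixes a nontrivial weight then it has no fixed vectors in the weight space -/
theorem fixF (s : Sit ρ Z T F H) [Z.Normal] {ψ : Z → k} (hψ1 : ∃ z, ψ z ≠ 1)
    (hF : ∀ a ∈ F, a • ψ = ψ) {v : V} (hv : v ∈ wt ρ Z ψ) (hvF : ∀ a ∈ F, ρ a v = v) : v = 0 := by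
  classical
  by_contra hv0
  have hψ : wt ρ Z ψ ≠ ⊥ := fun h => hv0 ((Submodule.mem_bot k).1 (h ▸ hv))
  have hH : ∃ h ∈ H, h • ψ ≠ ψ := by
    by_contra hcon
    push Not at hcon
    obtain ⟨z, hz⟩ := hψ1
    exact hz (s.triv_of_fixed hψ hF hcon z)
  have := Fintype.ofFinite H
  apply sm_ne_zero s.hZk s.hZ H s.hH hH hv hv0
  apply s.hV
  · intro a ha
    unfold sm
    rw [map_sum]
    apply Finset.sum_congr rfl
    intro h _
    have h1 : ρ a (ρ (h : Γ) v) = ρ (h : Γ) (ρ ((h : Γ)⁻¹ * a * h) v) := by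
      rw [← End.mul_apply, ← End.mul_apply, ← map_mul, ← map_mul]
      congr 2; group
    rw [h1, hvF _ (s.hHF' h h.2 a ha)]
  · intro h hh
    exact rho_sm ρ H v hh

/-- if `F` moves a weight then `H` has no fixed vectors in the weight space -/
theorem fixH (s : Sit ρ Z T F H) [Z.Normal] {ψ : Z → k}
    (hF : ∃ a ∈ F, a • ψ ≠ ψ) {v : V} (hv : v ∈ wt ρ Z ψ) (hvH : ∀ a ∈ H, ρ a v = v) : v = 0 := by
  classical
  by_contra hv0
  have := Fintype.ofFinite F
  apply sm_ne_zero s.hZk s.hZ F s.hF hF hv hv0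
  apply s.hV
  · intro a ha
    exact rho_sm ρ F v ha
  · intro h hh
    exact rho_sm_normal ρ F v (fun b hb => s.hHF h hh b hb) (fun b hb => s.hHF' h hh b hb) (hvH h hh)

/-- if `F` moves a weight, then `H` fixes some `F`-conjugate of it -/
theorem exists_fixH (s : Sit ρ Z T F H) [Z.Normal] {ψ : Z → k} (hψ : wt ρ Z ψ ≠ ⊥)
    (hF : ∃ a ∈ F, a • ψ ≠ ψ) : ∃ c ∈ F, ∀ h ∈ H, h • c • ψ = c • ψ := by
  classical
  have := Fintype.ofFinite F
  have := Fintype.ofFinite H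
  obtain ⟨v, hv, hv0⟩ := Submodule.exists_mem_ne_zero_of_ne_bot hψ
  have hstep : ∃ h ∈ H, h ≠ 1 ∧ ∃ c ∈ F, ∃ c' ∈ F, h • c • ψ = c' • ψ := by
    by_contra hcon
    push Not at hcon
    have hz : ∑ p : H × F, ρ ((p.1 : Γ) * (p.2 : Γ)) v = 0 := by
      have h1 : ∑ p : H × F, ρ ((p.1 : Γ) * (p.2 : Γ)) v = sm ρ H (sm ρ F v) := by
        unfold sm
        rw [Fintype.sum_prod_type]
        apply Finset.sum_congr rfl
        intro h _
        rw [map_sum]
        apply Finset.sum_congr rfl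
        intro c _
        rw [map_mul, End.mul_apply]
      rw [h1]
      apply s.hV
      · intro a ha
        conv_lhs => unfold sm
        conv_rhs => unfold sm
        rw [map_sum]
        apply Finset.sum_congr rfl
        intro h _
        have h1 : ρ a (ρ (h : Γ) (∑ b : F, ρ (b : Γ) v)) =
            ρ (h : Γ) (ρ ((h : Γ)⁻¹ * a * h) (sm ρ F v)) := by
          rw [← End.mul_apply, ← End.mul_apply, ← map_mul, ← map_mul]
          congr 2; group
        rw [h1, rho_sm ρ F v (s.hHF' h h.2 a ha)]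
        rfl
      · intro h hh
        exact rho_sm ρ H _ hh
    have h1 := eq_zero_of_sum_wt s.hZk s.hZ (Finset.univ : Finset (H × F))
      (fun p => ((p.1 : Γ) * (p.2 : Γ)) • ψ) (fun p => ρ ((p.1 : Γ) * (p.2 : Γ)) v) (by
        rintro ⟨h, c⟩ _ ⟨h', c'⟩ _ hij
        simp only [mul_smul] at hij
        have h2 : ((h' : Γ)⁻¹ * h) • (c : Γ) • ψ = (c' : Γ) • ψ := by
          rw [mul_smul, hij, inv_smul_smul]
        by_cases hh : (h' : Γ)⁻¹ * h = 1
        · rw [hh, one_smul] at h2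
          have h3 : h = h' := Subtype.ext (inv_mul_eq_one.mp hh).symm
          have h4 : c = c' := Subtype.ext (smul_inj_of_prime F s.hF hF c.2 c'.2 h2)
          rw [h3, h4]
        · exact absurd h2 (hcon _ (H.mul_mem (H.inv_mem h'.2) h.2) hh c c.2 c' c'.2)) (by
        intro p _
        exact smul_mem_wt hv _) hz (1, 1) (Finset.mem_univ _)
    apply hv0
    simpa using h1
  obtain ⟨h, hh, hh1, c, hc, c', hc', hcc⟩ := hstep
  -- `h` maps the orbit `F ψ` into itself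
  have hO1 : ∀ φ ∈ MulAction.orbit F ψ, h • φ ∈ MulAction.orbit F ψ := by
    rintro φ ⟨a, rfl⟩
    have h1 : h • ((a : F) • ψ) = (h * (a * c⁻¹) * h⁻¹) • (h • c • ψ) := by
      show h • ((a : Γ) • ψ) = _
      rw [← mul_smul, ← mul_smul, ← mul_smul]
      congr 1; group
    rw [h1, hcc, ← mul_smul]
    exact ⟨⟨h * (a * c⁻¹) * h⁻¹ * c', F.mul_mem (s.hHF h hh _ (F.mul_mem a.2 (F.inv_mem hc))) hc'⟩, rfl⟩
  have hO2 : ∀ g ∈ H, ∀ φ ∈ MulAction.orbit F ψ, g • φ ∈ MulAction.orbit F ψ := by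
    intro g hg φ hφ
    have h1 := mem_zpowers_of_prime H s.hH hh hh1 hg
    rw [← mem_powers_iff_mem_zpowers] at h1
    obtain ⟨n, rfl⟩ := h1
    have h2 : ∀ n : ℕ, (h ^ n) • φ ∈ MulAction.orbit F ψ := by
      intro n
      induction n with
      | zero => rw [pow_zero, one_smul]; exact hφ
      | succ n ih => rw [pow_succ', mul_smul]; exact hO1 _ ih
    exact h2 n
  let act : MulAction H (MulAction.orbit F ψ) :=
    { smul := fun g φ => ⟨(g : Γ) • φ.1, hO2 g g.2 _ φ.2⟩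
      one_smul := fun φ => Subtype.ext (one_smul Γ φ.1)
      mul_smul := fun g g' φ => Subtype.ext (mul_smul (g : Γ) (g' : Γ) φ.1) }
  have hcard : Nat.card (MulAction.orbit F ψ) = Nat.card F := by
    symm
    apply Nat.card_congr
    refine Equiv.ofBijective (fun a : F => (⟨a • ψ, MulAction.mem_orbit ψ a⟩ : MulAction.orbit F ψ)) ⟨?_, ?_⟩
    · intro a b hab
      have h1 : (a : Γ) • ψ = (b : Γ) • ψ := congrArg Subtype.val hab
      exact Subtype.ext (smul_inj_of_prime F s.hF hF a.2 b.2 h1)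
    · rintro ⟨φ, a, rfl⟩
      exact ⟨a, rfl⟩
  have hHp : Fact (Nat.card H).Prime := ⟨s.hH⟩
  have hpg : IsPGroup (Nat.card H) H := IsPGroup.of_card (n := 1) (by rw [pow_one])
  have hnd : ¬ Nat.card H ∣ Nat.card (MulAction.orbit F ψ) := by
    rw [hcard]
    intro h1
    have h2 : Nat.card F = (Nat.card F - 1) + 1 := by have := s.hF.one_lt; omega
    rw [h2, Nat.dvd_add_right s.hef, Nat.dvd_one] at h1
    exact s.hH.one_lt.ne' h1
  obtain ⟨⟨φ, a, rfl⟩, hφ⟩ := hpg.nonempty_fixed_point_of_prime_not_dvd_card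
    (α := MulAction.orbit F ψ) hnd
  refine ⟨a, a.2, ?_⟩
  intro g hg
  exact congrArg Subtype.val (hφ ⟨g, hg⟩)

end Sit

end Cfsg.Agent.H562.FpfWeights
end

-- part: H562/FpfWeights2
section
set_option autoImplicit false

namespace Cfsg.Agent.H562.FpfWeights

open Pointwise Module Cfsg.Agent.OddOrderLocal.Thm34Weights

attribute [local instance] wtAction

/-- Glauberman's lemma for a subgroup `A` acting coprimely on a subgroup `T`, both acting on a set. -/
theorem glauberman {Γ X : Type*} [Group Γ] [Finite Γ] [MulAction Γ X] (T A : Subgroup Γ)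
    (hA : ∀ a ∈ A, ∀ y ∈ T, a * y * a⁻¹ ∈ T) (hcop : (Nat.card A).Coprime (Nat.card T))
    (hsol : Group.IsSolvable T) (ψ : X) (h : ∀ a ∈ A, ∃ x ∈ T, a • ψ = x • ψ) :
    ∃ x ∈ T, ∀ a ∈ A, a • x • ψ = x • ψ := by
  classical
  set G' : Subgroup Γ := A ⊔ T with hG'
  have hAT : A ≤ Subgroup.normalizer (T : Set Γ) := by
    intro a ha
    rw [Subgroup.mem_normalizer_iff]
    intro y
    refine ⟨fun hy => hA a ha y hy, fun hy => ?_⟩
    have := hA a⁻¹ (inv_mem ha) _ hy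
    have h2 : a⁻¹ * (a * y * a⁻¹) * a⁻¹⁻¹ = y := by group
    rwa [h2] at this
  let O : Set X := {φ | ∃ x ∈ T, x • ψ = φ}
  have hO : ∀ g ∈ G', ∀ φ ∈ O, g • φ ∈ O := by
    have h1 : G' ≤ MulAction.stabilizer Γ O := by
      apply sup_le
      · intro a ha
        rw [MulAction.mem_stabilizer_set]
        have hkey : ∀ a ∈ A, ∀ φ ∈ O, a • φ ∈ O := by
          rintro a ha φ ⟨x, hx, rfl⟩
          obtain ⟨y, hy, hay⟩ := h a ha
          refine ⟨(a * x * a⁻¹) * y, T.mul_mem (hA a ha x hx) hy, ?_⟩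
          rw [mul_smul, ← hay, ← mul_smul, ← mul_smul]
          congr 1; group
        intro φ
        refine ⟨fun hφ => ?_, fun hφ => hkey a ha φ hφ⟩
        have := hkey a⁻¹ (inv_mem ha) _ hφ
        rwa [inv_smul_smul] at this
      · intro a ha
        rw [MulAction.mem_stabilizer_set]
        have hkey : ∀ a ∈ T, ∀ φ ∈ O, a • φ ∈ O := by
          rintro a ha φ ⟨x, hx, rfl⟩
          exact ⟨a * x, T.mul_mem ha hx, by rw [mul_smul]⟩
        intro φ
        refine ⟨fun hφ => ?_, fun hφ => hkey a ha φ hφ⟩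
        have := hkey a⁻¹ (inv_mem ha) _ hφ
        rwa [inv_smul_smul] at this
    intro g hg φ hφ
    exact ((MulAction.mem_stabilizer_set.1 (h1 hg)) φ).2 hφ
  let act : MulAction G' O :=
    { smul := fun g φ => ⟨(g : Γ) • φ.1, hO g g.2 _ φ.2⟩
      one_smul := fun φ => Subtype.ext (one_smul Γ φ.1)
      mul_smul := fun g g' φ => Subtype.ext (mul_smul (g : Γ) (g' : Γ) φ.1) }
  have hact : ∀ (g : G') (φ : O), (g • φ).1 = (g : Γ) • φ.1 := fun _ _ => rfl
  have hne : Nonempty O := ⟨⟨ψ, 1, T.one_mem, one_smul Γ ψ⟩⟩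
  have hT : T ≤ G' := le_sup_right
  have hAG : A ≤ G' := le_sup_left
  have hn : (T.subgroupOf G').Normal := by
    rw [← Subgroup.normalizer_eq_top_iff, eq_top_iff]
    rintro ⟨g, hg⟩ _
    rw [Subgroup.mem_normalizer_iff]
    rintro ⟨y, hy⟩
    simp only [Subgroup.mem_subgroupOf]
    have hg' : g ∈ Subgroup.normalizer (T : Set Γ) := (sup_le hAT Subgroup.le_normalizer) hg
    rw [Subgroup.mem_normalizer_iff] at hg'
    exact hg' y
  have hdis : Disjoint T A := by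
    rw [disjoint_iff]
    exact (Subgroup.disjoint_of_coprime_natCard hcop.symm).eq_bot
  have hcompl : Subgroup.IsComplement' (T.subgroupOf G') (A.subgroupOf G') := by
    apply Subgroup.isComplement'_of_disjoint_and_mul_eq_univ
    · rw [disjoint_iff, eq_bot_iff]
      rintro ⟨g, hg⟩ ⟨h1, h2⟩
      change g ∈ T at h1
      change g ∈ A at h2
      rw [Subgroup.mem_bot]
      apply Subtype.ext
      exact (Subgroup.mem_bot.1 ((disjoint_iff.1 hdis) ▸ (⟨h1, h2⟩ : g ∈ T ⊓ A)))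
    · rw [Set.eq_univ_iff_forall]
      rintro ⟨g, hg⟩
      have h1 : g ∈ ((A ⊔ T : Subgroup Γ) : Set Γ) := hg
      rw [sup_comm, Subgroup.coe_mul_of_right_le_normalizer_left T A hAT] at h1
      obtain ⟨y, hy, a, ha, rfl⟩ := h1
      exact ⟨⟨y, hT hy⟩, hy, ⟨a, hAG ha⟩, ha, rfl⟩
  have hcop' : (Nat.card (T.subgroupOf G')).Coprime (T.subgroupOf G').index := by
    rw [hcompl.symm.index_eq_card, Nat.card_congr (Subgroup.subgroupOfEquivOfLe hT).toEquiv,
      Nat.card_congr (Subgroup.subgroupOfEquivOfLe hAG).toEquiv]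
    exact hcop.symm
  have hsolT : Group.IsSolvable (T.subgroupOf G') := by
    exact Group.isSolvable_of_isSolvable_injective (f := (Subgroup.subgroupOfEquivOfLe hT).toMonoidHom)
      (Subgroup.subgroupOfEquivOfLe hT).injective
  have htr : MulAction.IsPretransitive (T.subgroupOf G') O := by
    constructor
    rintro ⟨φ, x, hx, rfl⟩ ⟨φ', x', hx', rfl⟩
    refine ⟨⟨⟨x' * x⁻¹, hT (T.mul_mem hx' (T.inv_mem hx))⟩, T.mul_mem hx' (T.inv_mem hx)⟩, ?_⟩
    apply Subtype.ext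
    show (x' * x⁻¹) • x • ψ = x' • ψ
    rw [mul_smul, inv_smul_smul]
  obtain ⟨⟨φ, x, hx, rfl⟩, hφ⟩ := (Cfsg.Agent.S0059.result (T.subgroupOf G') (A.subgroupOf G') hcompl hcop'
    (Or.inl hsolT) htr).1
  refine ⟨x, hx, ?_⟩
  intro a ha
  have := hφ ⟨a, hAG ha⟩ ha
  exact congrArg Subtype.val this


namespace Sit

variable {k : Type*} [Field k] {Γ : Type*} [Group Γ] [Finite Γ] {V : Type*} [AddCommGroup V] [Module k V]
variable {ρ : Representation k Γ V} {Z T F H : Subgroup Γ}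

omit [Finite Γ] in
theorem smul_nontrivial [Z.Normal] {ψ : Z → k} (hψ1 : ∃ z, ψ z ≠ 1) (g : Γ) : ∃ z, (g • ψ) z ≠ 1 := by
  obtain ⟨z, hz⟩ := hψ1
  refine ⟨MulAut.conjNormal g z, ?_⟩
  rw [wt_smul_def, ← MulAut.mul_apply, ← map_mul, inv_mul_cancel, map_one]
  exact hz

/-- `F` and `H` do not both stabilise the `T`-orbit of a nontrivial weight -/
theorem gl (s : Sit ρ Z T F H) [Z.Normal] {ψ : Z → k} (hψ : wt ρ Z ψ ≠ ⊥) (hψ1 : ∃ z, ψ z ≠ 1)
    (hF : ∀ a ∈ F, ∃ x ∈ T, a • ψ = x • ψ) (hH : ∀ a ∈ H, ∃ x ∈ T, a • ψ = x • ψ) : False := by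
  have hA : ∀ a ∈ H ⊔ F, (∀ y ∈ T, a * y * a⁻¹ ∈ T) ∧ ∃ x ∈ T, a • ψ = x • ψ := by
    intro a ha
    have h1 : a ∈ ((H ⊔ F : Subgroup Γ) : Set Γ) := ha
    rw [Subgroup.coe_mul_of_left_le_normalizer_right H F s.le_norm] at h1
    obtain ⟨h, hh, c, hc, rfl⟩ := h1
    constructor
    · intro y hy
      have h2 : h * c * y * (h * c)⁻¹ = h * (c * y * c⁻¹) * h⁻¹ := by group
      have h3 := s.hHT h hh _ (s.hFT c hc y hy)
      simpa [mul_assoc] using h3
    · obtain ⟨x, hx, hcx⟩ := hF c hc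
      obtain ⟨x', hx', hhx⟩ := hH h hh
      refine ⟨h * x * h⁻¹ * x', T.mul_mem (s.hHT h hh x hx) hx', ?_⟩
      show (h * c) • ψ = _
      rw [mul_smul, hcx, mul_smul _ x', ← hhx, ← mul_smul, ← mul_smul]
      congr 1; group
  obtain ⟨x, hx, hfix⟩ := glauberman T (H ⊔ F) (fun a ha => (hA a ha).1) (s.cop_A s.hFTc s.hHTc) s.hTs ψ
    (fun a ha => (hA a ha).2)
  obtain ⟨z, hz⟩ := smul_nontrivial hψ1 x
  apply hz
  apply s.triv_of_fixed (ψ := x • ψ)
  · intro h
    apply hψ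
    rw [eq_bot_iff]
    intro v hv
    have h1 := smul_mem_wt hv x
    rw [h, Submodule.mem_bot] at h1
    rw [Submodule.mem_bot]
    have h2 : ρ x⁻¹ (ρ x v) = v := by
      rw [← End.mul_apply, ← map_mul, inv_mul_cancel, map_one, End.one_apply]
    rw [← h2, h1, map_zero]
  · intro a ha
    exact hfix a (Subgroup.mem_sup_right ha)
  · intro a ha
    exact hfix a (Subgroup.mem_sup_left ha)

omit [Finite Γ] in
theorem smul_ne_bot [Z.Normal] {ψ : Z → k} (hψ : wt ρ Z ψ ≠ ⊥) (g : Γ) : wt ρ Z (g • ψ) ≠ ⊥ := by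
  intro h
  apply hψ
  rw [eq_bot_iff]
  intro v hv
  have h1 := smul_mem_wt hv g
  rw [h, Submodule.mem_bot] at h1
  rw [Submodule.mem_bot]
  have h2 : ρ g⁻¹ (ρ g v) = v := by
    rw [← End.mul_apply, ← map_mul, inv_mul_cancel, map_one, End.one_apply]
  rw [← h2, h1, map_zero]

variable [FiniteDimensional k V]

/-- the dichotomy: if `F` fixes one nontrivial weight then it fixes its whole orbit -/
theorem di (s : Sit ρ Z T F H) [Z.Normal]
    (hdec : ∀ g : Γ, ∃ c ∈ F, ∃ x ∈ T, ∃ h ∈ H, ∀ ψ : Z → k, g • ψ = c • x • h • ψ)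
    {ψ : Z → k} (hψ : wt ρ Z ψ ≠ ⊥) (hψ1 : ∃ z, ψ z ≠ 1)
    (hF : ∀ a ∈ F, a • ψ = ψ) (g : Γ) : ∀ a ∈ F, a • g • ψ = g • ψ := by
  by_contra hcon
  push Not at hcon
  obtain ⟨c, hc, hfix⟩ := s.exists_fixH (smul_ne_bot hψ g) hcon
  obtain ⟨c', hc', x, hx, h, hh, hg⟩ := hdec (c * g)
  have hcg : c • g • ψ = c' • x • h • ψ := by rw [← mul_smul]; exact hg ψ
  have hFh : ∀ a ∈ F, a • h • ψ = h • ψ := by
    intro a ha
    have h1 : a • h • ψ = h • ((h⁻¹ * a * h) • ψ) := by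
      rw [← mul_smul, ← mul_smul]; congr 1; group
    rw [h1, hF _ (s.hHF' h hh a ha)]
  have hcg' : c • g • ψ = (c' * x * c'⁻¹) • h • ψ := by
    rw [hcg]
    conv_rhs => rw [← hFh c' hc']
    rw [← mul_smul, ← mul_smul, ← mul_smul, ← mul_smul]
    congr 1; group
  have hx' : c' * x * c'⁻¹ ∈ T := s.hFT c' hc' x hx
  set x' := c' * x * c'⁻¹ with hx'def
  apply s.gl (ψ := c • g • ψ) (smul_ne_bot (smul_ne_bot hψ g) c)
    (smul_nontrivial (smul_nontrivial hψ1 g) c)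
  · intro a ha
    refine ⟨a * x' * a⁻¹ * x'⁻¹, T.mul_mem (s.hFT a ha x' hx') (T.inv_mem hx'), ?_⟩
    rw [hcg', ← mul_smul (a * x' * a⁻¹ * x'⁻¹), inv_mul_cancel_right]
    conv_rhs => rw [← hFh a ha]
    simp only [← mul_smul]
    congr 1; group
  · intro a ha
    exact ⟨1, T.one_mem, by rw [one_smul]; exact hfix a ha⟩

/-- if `F` fixes no weight in the orbit and `H` fixes `χ`, then `H` fixes the `T`-orbit of `χ` -/
theorem hc (s : Sit ρ Z T F H) [Z.Normal] {χ : Z → k} (hχ : wt ρ Z χ ≠ ⊥) (hχ1 : ∃ z, χ z ≠ 1)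
    (hF : ∀ g : Γ, ∃ a ∈ F, a • g • χ ≠ g • χ) (hH : ∀ h ∈ H, h • χ = χ) {x : Γ} (hx : x ∈ T) :
    ∀ h ∈ H, h • x • χ = x • χ := by
  obtain ⟨c, hc, hfix⟩ := s.exists_fixH (smul_ne_bot hχ x) (hF x)
  intro h hh
  set a : Γ := c⁻¹ * (h * c * h⁻¹) with ha
  have haF : a ∈ F := F.mul_mem (F.inv_mem hc) (s.hHF h hh c hc)
  have h1 : (c⁻¹ * h * c) • x • χ = x • χ := by
    rw [mul_smul, mul_smul, hfix h hh, inv_smul_smul]
  have hb : c⁻¹ * h * c = a * h := by rw [ha]; group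
  by_cases ha1 : a = 1
  · rw [hb, ha1, one_mul] at h1
    exact h1
  exfalso
  rw [hb] at h1
  have hbT : (a * h) * x * (a * h)⁻¹ ∈ T := by
    have h3 := s.hFT a haF _ (s.hHT h hh x hx)
    have h2 : (a * h) * x * (a * h)⁻¹ = a * (h * x * h⁻¹) * a⁻¹ := by group
    rw [h2]; exact h3
  have h4 : (a * h) • x • χ = ((a * h) * x * (a * h)⁻¹) • a • χ := by
    conv_rhs => rw [← hH h hh]
    rw [← mul_smul, ← mul_smul, ← mul_smul]
    congr 1; group
  rw [h4] at h1
  set y : Γ := ((a * h) * x * (a * h)⁻¹)⁻¹ * x with hy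
  have hyT : y ∈ T := T.mul_mem (T.inv_mem hbT) hx
  have h5 : a • χ = y • χ := by
    rw [hy, mul_smul (((a * h) * x * (a * h)⁻¹)⁻¹) x χ, ← h1, inv_smul_smul]
  apply s.gl hχ hχ1
  · intro b hb'
    have hbz := mem_zpowers_of_prime F s.hF haF ha1 hb'
    rw [← mem_powers_iff_mem_zpowers] at hbz
    obtain ⟨n, rfl⟩ := hbz
    have h6 : ∀ n : ℕ, ∃ x ∈ T, (a ^ n) • χ = x • χ := by
      intro n
      induction n with
      | zero => exact ⟨1, T.one_mem, by rw [pow_zero]⟩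
      | succ n ih =>
        obtain ⟨u, hu, hau⟩ := ih
        refine ⟨a * u * a⁻¹ * y, T.mul_mem (s.hFT a haF u hu) hyT, ?_⟩
        rw [pow_succ', mul_smul, hau, mul_smul _ y, ← h5, ← mul_smul, ← mul_smul]
        congr 1; group
    exact h6 n
  · intro b hb'
    exact ⟨1, T.one_mem, by rw [one_smul]; exact hH b hb'⟩

end Sit

end Cfsg.Agent.H562.FpfWeights
end
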